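import Cfsg.Agent.DL.Datum
import Cfsg.Agent.BpExc.Sig

/-!
# Tools for building a `Datum` (helper5)

* `rgd_congr`, `rgd_enlarge` : change of the root groups off the roots, enlarging the torus;
* `levF p k e` : the subfield of the `u` with `u ^ p ^ e = u`;
* `rgd_lev` : the root group datum of a level, from a root group datum with a smaller torus;
* `Datum.withF` : the same frame with another Steinberg endomorphism.
-/

set_option autoImplicit false
set_option linter.unusedSectionVars false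

namespace Cfsg.Agent.DL.Ex

open CoxeterSystem Cfsg.Agent.ChevalleyStructure.CoxeterGeom Cfsg.Agent.Tits.Roots Cfsg.Agent.Nodes.Reps
  Cfsg.Agent.Nodes.BNOf Cfsg.Agent.Nodes.Bruhat Cfsg.Agent.LangThm Cfsg.Agent.BpExc.TowChev
open scoped commutatorElement

section Rgd

variable {I W Y : Type*} [Fintype I] [DecidableEq I] [Group W] [Group Y] {M : CoxeterMatrix I}
  {cs : CoxeterSystem M W} {A : I → I → ℤ} {h : IsCartan M A} {p : ℕ} {T T' : Subgroup Y} {n : I → Y}
  {X X' : (I → ℤ) → Subgroup Y}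

theorem rgd_congr (R : RGD cs h p T n X) (hX : ∀ a, IsRoot cs h a → X a = X' a) : RGD cs h p T n X' where
  nsys := R.nsys
  conj i x hx := by rw [← hX x hx, ← hX _ (hx.act _)]; exact R.conj i x hx
  tor x hx t ht := by rw [← hX x hx]; exact R.tor x hx t ht
  comm x y hx hy h1 h2 a ha b hb := by
    rw [← hX x hx] at ha
    rw [← hX y hy] at hb
    have h3 : btw cs h X x y = btw cs h X' x y := by
      unfold Cfsg.Agent.Nodes.Reps.btw
      exact iSup_congr fun z => hX _ z.2.1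
    rw [← h3]
    exact R.comm x y hx hy h1 h2 a ha b hb
  rk1 i := by
    rw [← hX _ (isRoot_sr cs h i), ← hX _ (isRoot_sr cs h i).neg]
    exact R.rk1 i
  pgrp i := by rw [← hX _ (isRoot_sr cs h i)]; exact R.pgrp i
  notp i := by
    rw [← hX _ (isRoot_sr cs h i), ← hX _ (isRoot_sr cs h i).neg]
    exact R.notp i
  tcop := R.tcop

theorem rgd_enlarge (R : RGD cs h p T n X) (hT : T ≤ T') (hn : ∀ i, ∀ t ∈ T', n i * t * (n i)⁻¹ ∈ T')
    (hX : ∀ a, IsRoot cs h a → ∀ t ∈ T', ∀ u ∈ X a, t * u * t⁻¹ ∈ X a) (hc : (Nat.card T').Coprime p) :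
    RGD cs h p T' n X where
  nsys := by
    refine ⟨fun i => ?_, fun i j => hT (R.nsys.rel i j)⟩
    rw [Subgroup.mem_normalizer_iff]
    intro t
    refine ⟨hn i t, fun ht => ?_⟩
    have h1 : n i * n i ∈ T' := by
      have h2 := hT (R.nsys.rel i i)
      rwa [M.diagonal, pow_one] at h2
    have h2 := hn i _ ht
    have h3 : t = (n i * n i)⁻¹ * (n i * (n i * t * (n i)⁻¹) * (n i)⁻¹) * (n i * n i) := by group
    rw [h3]
    exact mul_mem (mul_mem (inv_mem h1) h2) h1
  conj := R.conj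
  tor a ha t ht := by
    ext u
    rw [mem_cj]
    constructor
    · intro hu
      have h1 := hX a ha t ht _ hu
      have h2 : t * (t⁻¹ * u * t) * t⁻¹ = u := by group
      rwa [h2] at h1
    · intro hu
      have h1 := hX a ha t⁻¹ (inv_mem ht) _ hu
      rwa [inv_inv] at h1
  comm := R.comm
  rk1 i u hu h1 := by
    obtain ⟨a, ha, t, ht, b, hb, e⟩ := R.rk1 i u hu h1
    exact ⟨a, ha, t, hT ht, b, hb, e⟩
  pgrp := R.pgrp
  notp := R.notp
  tcop := hc

end Rgd

/-! ### levels -/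

section Field

variable (p : ℕ) [Fact p.Prime] (k : Type) [Field k] [CharP k p]

/-- The subfield of the elements with `u ^ p ^ e = u`. -/
noncomputable def levF (e : ℕ) : Subfield k := (iterateFrobenius k p e).eqLocusField (RingHom.id k)

variable {p k}

theorem mem_levF {e : ℕ} {u : k} : u ∈ levF p k e ↔ u ^ p ^ e = u := by
  rw [← iterateFrobenius_def]
  rfl

theorem finite_levF {e : ℕ} (he : 0 < e) : Finite ↥(levF p k e) := by
  have h1 : 1 < p ^ e := Nat.one_lt_pow he.ne' (Fact.out : p.Prime).one_lt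
  have h2 := Cfsg.Agent.BpExc.Sig.finite_pow_eq (k := k) h1
  have h3 : (levF p k e : Set k) = {x : k | x ^ p ^ e = x} := by
    ext u
    exact mem_levF
  rw [← h3] at h2
  exact h2.to_subtype

/-- elements which are fixed by a power of the Frobenius map lie in finite subfields -/
theorem locFin_of_lf (hk : ∀ a : k, ∃ m, 0 < m ∧ a ^ p ^ m = a) : LocFin k := by
  intro S hS
  have := hS.to_subtype
  have := Fintype.ofFinite S
  choose m hm0 hm using hk
  have h0 : 0 < ∏ s : S, m s := Finset.prod_pos fun s _ => hm0 s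
  refine ⟨levF p k (∏ s : S, m s), finite_levF h0, fun s hs => ?_⟩
  obtain ⟨c, hc⟩ : m s ∣ ∏ s : S, m s := Finset.dvd_prod_of_mem (fun s : S => m s) (Finset.mem_univ ⟨s, hs⟩)
  rw [SetLike.mem_coe, mem_levF, hc]
  clear hc
  induction c with
  | zero => rw [mul_zero, pow_zero, pow_one]
  | succ c ih => rw [mul_add, mul_one, pow_add, pow_mul, ih, hm]

theorem lf_of_locFin (hk : LocFin k) (a : k) : ∃ m, 0 < m ∧ a ^ p ^ m = a := by
  obtain ⟨E, hE⟩ := exists_mem_lev hk a
  have := Fintype.ofFinite E.1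
  have := charP_lev p E.1
  obtain ⟨m, -, hm⟩ := FiniteField.card E.1 p
  refine ⟨m, m.2, ?_⟩
  have h1 := FiniteField.pow_card (⟨a, hE⟩ : E.1)
  rw [hm] at h1
  exact congrArg Subtype.val h1

end Field

section Lev

variable {p : ℕ} [Fact p.Prime] {k : Type} [Field k] [CharP k p] {Y : Type} [Group Y] {N : Type} [Fintype N]
  [DecidableEq N] {ρ : Y →* GL N k}

theorem finite_lev (hρ : Function.Injective ρ) {e : ℕ} (he : 0 < e) : Finite ↥(lev p ρ e) := by
  have h3 : {g : GL N k | frob p e g = g}.Finite := Cfsg.Agent.BpExc.Sig.finite_frob he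
  have := h3.to_subtype
  refine Finite.of_injective (β := {g : GL N k | frob p e g = g}) (fun g : ↥(lev p ρ e) => ⟨ρ g, g.2⟩) ?_
  intro a b hab
  exact Subtype.ext (hρ (congrArg Subtype.val hab))

theorem coprime_card {R : Type} {τ : (R → kˣ) →* Y} (hτ : Function.Injective τ) {T : Subgroup Y} [Finite T]
    (hT : ∀ t ∈ T, ∃ c, τ c = t) : (Nat.card T).Coprime p := by
  rw [Nat.coprime_comm, (Fact.out : p.Prime).coprime_iff_not_dvd]
  intro hd
  obtain ⟨⟨t, ht⟩, ho⟩ := exists_prime_orderOf_dvd_card' p hd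
  have h1 : t ^ p = 1 := by
    have := pow_orderOf_eq_one (⟨t, ht⟩ : T)
    rw [ho] at this
    exact congrArg Subtype.val this
  obtain ⟨c, rfl⟩ := hT t ht
  rw [← map_pow, ← map_one τ] at h1
  have h2 := hτ h1
  have h3 : c = 1 := by
    funext j
    have h4 : ((c j : kˣ) : k) ^ p = 1 := by
      have := congrFun h2 j
      rw [Pi.pow_apply, Pi.one_apply] at this
      rw [← Units.val_pow_eq_pow_val, this, Units.val_one]
    have h5 : (((c j : kˣ) : k) - 1) ^ p = 0 := by rw [sub_pow_char, h4, one_pow, sub_self]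
    exact Units.ext (sub_eq_zero.1 (pow_eq_zero_iff (Fact.out : p.Prime).ne_zero |>.1 h5))
  subst h3
  have h4 : orderOf (⟨τ 1, ht⟩ : T) = 1 := orderOf_eq_one_iff.2 (Subtype.ext (map_one τ))
  rw [h4] at ho
  exact (Fact.out : p.Prime).one_lt.ne ho

variable {I W : Type} [Fintype I] [DecidableEq I] [Group W] {M : CoxeterMatrix I}
  {cs : CoxeterSystem M W} {A : I → I → ℤ} {h : IsCartan M A}

/-- **The root group datum of a level.** -/
theorem rgd_lev (hρ : Function.Injective ρ) {e : ℕ} (he : 0 < e) {R : Type} {τ : (R → kˣ) →* Y}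
    (hτ : Function.Injective τ) {T T0 : Subgroup Y} (hT : ∀ t ∈ T, ∃ c, τ c = t) {n : I → Y}
    {X X0 : (I → ℤ) → Subgroup Y} (R0 : RGD cs h p T0 n X0) (hT0 : T0 ≤ T ⊓ lev p ρ e)
    (hX0 : ∀ a, IsRoot cs h a → X0 a = X a ⊓ lev p ρ e) (hn : ∀ i, n i ∈ lev p ρ e)
    (hnT : ∀ i, ∀ t ∈ T, n i * t * (n i)⁻¹ ∈ T) (hTX : ∀ a, IsRoot cs h a → ∀ t ∈ T, ∀ u ∈ X a, t * u * t⁻¹ ∈ X a) :
    RGD cs h p (T ⊓ lev p ρ e) n (fun a => X a ⊓ lev p ρ e) := by
  have := finite_lev (p := p) hρ he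
  have : Finite ↥(T ⊓ lev p ρ e) := Finite.of_injective _ (Subgroup.inclusion_injective (inf_le_right (a := T)))
  refine rgd_enlarge (rgd_congr R0 hX0) hT0 (fun i t ht => ⟨hnT i t ht.1, ?_⟩) (fun a ha t ht u hu => ⟨?_, ?_⟩)
    (coprime_card hτ fun t ht => hT t ht.1)
  · exact (lev p ρ e).mul_mem ((lev p ρ e).mul_mem (hn i) ht.2) ((lev p ρ e).inv_mem (hn i))
  · exact hTX a ha t ht.1 u hu.1
  · exact (lev p ρ e).mul_mem ((lev p ρ e).mul_mem ht.2 hu.2) ((lev p ρ e).inv_mem ht.2)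

end Lev

end Cfsg.Agent.DL.Ex

namespace Cfsg.Agent.DL.Datum

open Cfsg.Agent.Tits.Roots

variable {p : ℕ} [Fact p.Prime] {k : Type} [Field k] [CharP k p] {Y : Type} [Group Y] {N : Type} [Fintype N]
  [DecidableEq N] {ρ : Y →* GL N k} {F : MulAut Y} {G : Subgroup Y} (D : Datum p ρ F G)

/-- The same frame with another Steinberg endomorphism. -/
def withF {F' : MulAut Y} (amb : Amb p ρ F') (g : (D.I → ℤ) → (D.I → ℤ)) (ex : (D.I → ℤ) → ℕ)
    (g_root : ∀ a, D.Rt a → D.Rt (g a))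
    (F_x : ∀ a, D.Rt a → ∃ c : k, c ≠ 0 ∧ ∀ u, F' (D.x a u) = D.x (g a) (c * u ^ p ^ ex a))
    (Mx : Matrix D.R D.R ℤ) (F_τ : ∀ c, F' (D.τ c) = D.τ (mon Mx c)) : Datum p ρ F' G :=
  { D with amb := amb, g := g, ex := ex, g_root := g_root, F_x := F_x, Mx := Mx, F_τ := F_τ }

end Cfsg.Agent.DL.Datum
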