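import Cfsg.Agent.DL.Datum

/-!
# A finite group inside `G^F` (helper5)

`Over F G T ι d` : `ι : S →* Y` is injective, its image is a normal subgroup of `G^F`, `G^F = ι(S) T^F`, and
`t ^ d ∈ ι(S)` for `t ∈ T^F`.  Consequences: `O.hom : S →* G^F`, `O.normal`, `O.comm_mem` (abelian quotient),
`O.pow_mem`, `O.prime_dvd` (primes dividing the index divide `d`), `O.equiv` (if `T^F ≤ ι(S)`, for instance `d = 1`),
`O.index_dvd` (if the quotient is cyclic), `O.congr`, `O.trans`.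
-/

set_option autoImplicit false
set_option linter.unusedSectionVars false

namespace Cfsg.Agent.DL.Ex

open scoped commutatorElement

variable {Y : Type} [Group Y] {F : MulAut Y} {G T : Subgroup Y} {S : Type*} [Group S] {ι : S →* Y} {d : ℕ}

/-- `S` is a normal subgroup of `G^F` with `G^F = S T^F` and `(T^F) ^ d ≤ S`. -/
structure Over (F : MulAut Y) (G T : Subgroup Y) (ι : S →* Y) (d : ℕ) : Prop where
  inj : Function.Injective ι
  mem : ∀ s, ι s ∈ GF F G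
  norm : ∀ g ∈ GF F G, ∀ s, g * ι s * g⁻¹ ∈ ι.range
  split : ∀ g ∈ GF F G, ∃ s, ∃ t ∈ GF F T, g = ι s * t
  pow : ∀ t ∈ GF F T, t ^ d ∈ ι.range
  comm : ∀ a ∈ T, ∀ b ∈ T, a * b = b * a
  le : T ≤ G

namespace Over

variable (O : Over F G T ι d)

/-- the embedding into `G^F` -/
def hom : S →* ↥(GF F G) := ι.codRestrict _ O.mem

theorem coe_hom (s : S) : ((O.hom s : ↥(GF F G)) : Y) = ι s := rfl

theorem hom_inj : Function.Injective O.hom := fun _ _ h => O.inj (congrArg Subtype.val h)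

theorem mem_range {g : ↥(GF F G)} : g ∈ O.hom.range ↔ (g : Y) ∈ ι.range :=
  ⟨fun ⟨s, hs⟩ => ⟨s, congrArg Subtype.val hs⟩, fun ⟨s, hs⟩ => ⟨s, Subtype.ext hs⟩⟩

theorem normal : O.hom.range.Normal :=
  ⟨fun _ ⟨s, hs⟩ g => O.mem_range.2 (by rw [← hs]; exact O.norm g g.2 s)⟩

include O in
theorem TF_le : GF F T ≤ GF F G := fun _ ht => ⟨O.le ht.1, ht.2⟩

include O in
theorem conj_mem {g : Y} (hg : g ∈ GF F G) {x : Y} (hx : x ∈ ι.range) : g * x * g⁻¹ ∈ ι.range := by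
  obtain ⟨s, rfl⟩ := hx
  exact O.norm g hg s

theorem mk_surj (x : ↥(GF F G) ⧸ O.hom.range) : ∃ t, ∃ ht : t ∈ GF F T, x = ((⟨t, O.TF_le ht⟩ : ↥(GF F G)) : _ ⧸ _) := by
  obtain ⟨g, rfl⟩ := QuotientGroup.mk_surjective x
  obtain ⟨s, t, ht, e⟩ := O.split g g.2
  refine ⟨t, ht, QuotientGroup.eq.2 (O.mem_range.2 ?_)⟩
  have h1 := O.conj_mem (inv_mem (O.TF_le ht)) (inv_mem (⟨s, rfl⟩ : ι s ∈ ι.range))
  have h2 : (((g⁻¹ * ⟨t, O.TF_le ht⟩ : ↥(GF F G))) : Y) = t⁻¹ * (ι s)⁻¹ * t⁻¹⁻¹ := by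
    rw [Subgroup.coe_mul, Subgroup.coe_inv, e]
    group
  rwa [h2]

theorem pow_mem (g : ↥(GF F G)) : g ^ d ∈ O.hom.range := by
  have := O.normal
  obtain ⟨t, ht, e⟩ := O.mk_surj (g : _ ⧸ O.hom.range)
  rw [← QuotientGroup.eq_one_iff, QuotientGroup.mk_pow, e, ← QuotientGroup.mk_pow, QuotientGroup.eq_one_iff]
  exact O.mem_range.2 (O.pow t ht)

theorem comm_mem (g h : ↥(GF F G)) : ⁅g, h⁆ ∈ O.hom.range := by
  have := O.normal
  obtain ⟨t, ht, e⟩ := O.mk_surj (g : _ ⧸ O.hom.range)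
  obtain ⟨t', ht', e'⟩ := O.mk_surj (h : _ ⧸ O.hom.range)
  rw [← QuotientGroup.eq_one_iff]
  have h1 : ((⁅g, h⁆ : ↥(GF F G)) : _ ⧸ O.hom.range) = ⁅(g : _ ⧸ O.hom.range), (h : _ ⧸ O.hom.range)⁆ :=
    map_commutatorElement (QuotientGroup.mk' O.hom.range) g h
  rw [h1, e, e', commutatorElement_eq_one_iff_mul_comm, ← QuotientGroup.mk_mul, ← QuotientGroup.mk_mul]
  exact congrArg _ (Subtype.ext (O.comm t ht.1 t' ht'.1))

theorem commutator_le : commutator ↥(GF F G) ≤ O.hom.range := by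
  rw [commutator_def, Subgroup.commutator_le]
  exact fun g _ h _ => O.comm_mem g h

/-- If `S` is perfect, its image is the derived subgroup. -/
theorem commutator_eq (hS : commutator S = ⊤) : commutator ↥(GF F G) = O.hom.range := by
  refine le_antisymm O.commutator_le ?_
  rw [MonoidHom.range_eq_map, ← hS, commutator_def, Subgroup.map_commutator, commutator_def]
  exact Subgroup.commutator_mono le_top le_top

theorem prime_dvd [Finite ↥(GF F G)] {r : ℕ} (hr : r.Prime) (h : r ∣ O.hom.range.index) : r ∣ d := by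
  have := O.normal
  have : Fact r.Prime := ⟨hr⟩
  obtain ⟨x, hx⟩ := exists_prime_orderOf_dvd_card' (G := ↥(GF F G) ⧸ O.hom.range) r h
  obtain ⟨g, rfl⟩ := QuotientGroup.mk_surjective x
  rw [← hx, orderOf_dvd_iff_pow_eq_one, ← QuotientGroup.mk_pow, QuotientGroup.eq_one_iff]
  exact O.pow_mem g

theorem card_eq : Nat.card ↥(GF F G) = Nat.card S * O.hom.range.index := by
  rw [← Subgroup.card_mul_index O.hom.range, Nat.card_congr (MonoidHom.ofInjective O.hom_inj).toEquiv]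

theorem surj_of_le (h : GF F T ≤ ι.range) : Function.Surjective O.hom := by
  intro g
  obtain ⟨s, t, ht, e⟩ := O.split g g.2
  refine O.mem_range.2 ?_
  rw [e]
  exact mul_mem ⟨s, rfl⟩ (h ht)

/-- `G^F ≅ S` if `T^F ≤ S`. -/
noncomputable def equivOfLe (h : GF F T ≤ ι.range) : S ≃* ↥(GF F G) :=
  MulEquiv.ofBijective O.hom ⟨O.hom_inj, O.surj_of_le h⟩

theorem coe_equivOfLe (h : GF F T ≤ ι.range) (s : S) : ((O.equivOfLe h s : ↥(GF F G)) : Y) = ι s := rfl

theorem le_of_one (O : Over F G T ι 1) : GF F T ≤ ι.range := fun t ht => by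
  have := O.pow t ht
  rwa [pow_one] at this

/-- `G^F ≅ S` if `d = 1`. -/
noncomputable def equiv (O : Over F G T ι 1) : S ≃* ↥(GF F G) := O.equivOfLe O.le_of_one

theorem coe_equiv (O : Over F G T ι 1) (s : S) : ((O.equiv s : ↥(GF F G)) : Y) = ι s := rfl

theorem range_eq (O : Over F G T ι 1) : ι.range = GF F G := by
  apply le_antisymm
  · rintro _ ⟨s, rfl⟩
    exact O.mem s
  · intro g hg
    exact O.mem_range.1 (O.surj_of_le O.le_of_one ⟨g, hg⟩)

/-- The index divides `d` if `T^F` is generated by one element modulo `S`. -/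
theorem index_dvd {t₀ : Y} (h₀ : t₀ ∈ GF F T) (h : ∀ t ∈ GF F T, ∃ n : ℤ, t * (t₀ ^ n)⁻¹ ∈ ι.range) :
    O.hom.range.index ∣ d := by
  have := O.normal
  have h1 : Subgroup.zpowers ((⟨t₀, O.TF_le h₀⟩ : ↥(GF F G)) : _ ⧸ O.hom.range) = ⊤ := by
    rw [eq_top_iff]
    intro x _
    obtain ⟨t, ht, rfl⟩ := O.mk_surj x
    obtain ⟨n, hn⟩ := h t ht
    refine ⟨n, ?_⟩
    show ((⟨t₀, O.TF_le h₀⟩ : ↥(GF F G)) : _ ⧸ O.hom.range) ^ n = _
    rw [← QuotientGroup.mk_zpow, QuotientGroup.eq]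
    refine O.mem_range.2 ?_
    show (t₀ ^ n)⁻¹ * t ∈ _
    have h2 : t₀ ∈ T := h₀.1
    rwa [O.comm _ (inv_mem (zpow_mem h2 n)) _ ht.1]
  rw [Subgroup.index, ← Subgroup.card_top, ← h1, Nat.card_zpowers, orderOf_dvd_iff_pow_eq_one, ← QuotientGroup.mk_pow,
    QuotientGroup.eq_one_iff]
  exact O.pow_mem _

include O in
theorem of_pow {d' : ℕ} (h : ∀ t ∈ GF F T, t ^ d' ∈ ι.range) : Over F G T ι d' :=
  ⟨O.inj, O.mem, O.norm, O.split, h, O.comm, O.le⟩

include O in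
theorem gcd {d' : ℕ} (h : ∀ t ∈ GF F T, t ^ d' ∈ ι.range) : Over F G T ι (Nat.gcd d d') := by
  refine O.of_pow fun t ht => ?_
  have h1 : t ^ Nat.gcd d d' = (t ^ d) ^ Nat.gcdA d d' * (t ^ d') ^ Nat.gcdB d d' := by
    rw [← zpow_natCast, ← zpow_natCast, ← zpow_natCast, ← zpow_mul, ← zpow_mul, ← zpow_add, Nat.gcd_eq_gcd_ab]
  rw [h1]
  exact mul_mem (zpow_mem (O.pow t ht) _) (zpow_mem (h t ht) _)

include O in
theorem congr {S' : Type*} [Group S'] (e : S' ≃* S) : Over F G T (ι.comp e.toMonoidHom) d := by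
  have h : (ι.comp e.toMonoidHom).range = ι.range := by
    rw [MonoidHom.range_comp, MonoidHom.range_eq_top.2 e.surjective, ← MonoidHom.range_eq_map]
  refine ⟨O.inj.comp e.injective, fun s => O.mem _, fun g hg s => ?_, fun g hg => ?_, fun t ht => ?_, O.comm, O.le⟩
  · rw [h]
    exact O.norm g hg _
  · obtain ⟨s, t, ht, h1⟩ := O.split g hg
    exact ⟨e.symm s, t, ht, by rw [h1]; simp⟩
  · rw [h]
    exact O.pow t ht

end Over

/-- the case `ι(S) = G^F` -/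
theorem over_of_range (inj : Function.Injective ι) (h : ι.range = GF F G) (comm : ∀ a ∈ T, ∀ b ∈ T, a * b = b * a)
    (le : T ≤ G) : Over F G T ι 1 where
  inj := inj
  mem s := h ▸ ⟨s, rfl⟩
  norm g hg s := by
    rw [h]
    exact mul_mem (mul_mem hg (h ▸ ⟨s, rfl⟩)) (inv_mem hg)
  split g hg := by
    rw [← h] at hg
    obtain ⟨s, rfl⟩ := hg
    exact ⟨s, 1, one_mem _, (mul_one _).symm⟩
  pow t ht := by
    rw [h, pow_one]
    exact ⟨le ht.1, ht.2⟩
  comm := comm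
  le := le

end Cfsg.Agent.DL.Ex
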