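import Cfsg.Agent.DL.Ex.Split
import Cfsg.Agent.DL.Ex.Over
import Cfsg.Agent.BpExc.EmbSplit

/-!
# The split groups `G^F` versus the Chevalley groups over the finite field (helper5)

`f : F →+* k`, `|F| = p ^ e`, `F = frobA _ p e`.

* `over_split` : `Over (frobA _ p e) ⊤ (TT D k) (emb _ f) (gcd d (p ^ e - 1))` if `InvC D l d B`;
* `over_G2`, `over_F4`, `over_E8` (`d = 1`: `G^F ≅ D.group F` by `Over.equiv`), `over_E6` (`3`), `over_E7` (`2`);
* `index_dvd_E6`, `index_dvd_E7` : the index divides `gcd 3 (q - 1)`, `gcd 2 (q - 1)`;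
* `exists_closure` : the algebraic closure of `F` as the field `k`.
-/

set_option autoImplicit false
set_option linter.unusedSectionVars false

namespace Cfsg.Agent.DL.Ex

open CoxeterSystem Cfsg Cfsg.Lie Cfsg.Lie.ChevalleyDatum
open Cfsg.Agent.ChevalleyStructure Cfsg.Agent.ChevalleyStructure.Elts Cfsg.Agent.ChevalleyStructure.CoxeterGeom
  Cfsg.Agent.ChevalleyStructure.CoxeterGeomTypes Cfsg.Agent.ChevalleyStructure.NPerm
open Cfsg.Agent.Tits.Roots Cfsg.Agent.Tits.Core Cfsg.Agent.Nodes Cfsg.Agent.Nodes.Reps Cfsg.Agent.Nodes.BNOf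
  Cfsg.Agent.Nodes.RGDChev Cfsg.Agent.Nodes.Bruhat
open Cfsg.Agent.KFacts.RgdField Cfsg.Agent.KFacts.RgdChevCoord Cfsg.Agent.BpExc.TorChev
open Cfsg.Agent.GpExc.Field Cfsg.Agent.BpExc.Tow Cfsg.Agent.BpExc.TowChev Cfsg.Agent.BpExc.Fr
  Cfsg.Agent.BpExc.LangFr Cfsg.Agent.LangThm Cfsg.Agent.BpExc Cfsg.Agent.H129.TorusChar

/-! ### characters -/

section Chr

variable {R : Type} [Fintype R] {k : Type} [Field k]

theorem chr_sum {J : Type*} (s : Finset J) (m : J → R → ℤ) (c : R → kˣ) :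
    chr (∑ j ∈ s, m j) c = ∏ j ∈ s, chr (m j) c := by
  classical
  induction s using Finset.induction_on with
  | empty => rw [Finset.sum_empty, Finset.prod_empty, chr_zero]
  | insert j s hj ih => rw [Finset.sum_insert hj, Finset.prod_insert hj, chr_add, ih]

/-- a product of cocharacters evaluated at characters is a monomial map -/
theorem prod_coch_chr {J : Type} [Fintype J] (A : J → R → ℤ) (B : R → J → ℤ) (c : R → kˣ) (i : R) :
    (∏ j, coch (A j) (chr (fun m => B m j) c)) i = chr (fun m => ∑ j, B m j * A j i) c := by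
  have h : (fun m => ∑ j, B m j * A j i) = ∑ j, A j i • fun m => B m j := by
    funext m
    rw [Finset.sum_apply]
    exact Finset.sum_congr rfl fun j _ => mul_comm _ _
  rw [h, chr_sum, Finset.prod_apply]
  exact Finset.prod_congr rfl fun j _ => by rw [coch_apply, chr_smul]

theorem chr_pow_eq {c : R → kˣ} {q : ℕ} (hc : c ^ q = c) (m : R → ℤ) : chr m c ^ q = chr m c := by
  rw [← map_pow, hc]

end Chr

/-- the algebraic closure of a finite field -/
theorem exists_closure (F : Type) [Field F] [Fintype F] :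
    ∃ (p e : ℕ) (_ : Fact p.Prime) (_ : CharP F p) (_ : CharP (AlgebraicClosure F) p), 0 < e ∧
      Fintype.card F = p ^ e ∧ LocFin (AlgebraicClosure F) := by
  obtain ⟨p, hp'⟩ := CharP.exists F
  have : Fact p.Prime := ⟨CharP.char_is_prime F p⟩
  obtain ⟨n, -, h2⟩ := FiniteField.card F p
  have h3 : CharP (AlgebraicClosure F) p := charP_of_injective_algebraMap (algebraMap F _).injective p
  refine ⟨p, n, this, hp', h3, n.pos, h2, ?_⟩
  let _ := ZMod.algebra F p
  have : Algebra.IsAlgebraic (ZMod p) F := Algebra.IsAlgebraic.of_finite _ _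
  have : Algebra.IsAlgebraic (ZMod p) (AlgebraicClosure F) := Algebra.IsAlgebraic.trans (ZMod p) F _
  exact locFin_of_isAlgebraic p _

theorem locFin_closure (F : Type) [Field F] [Fintype F] : LocFin (AlgebraicClosure F) := by
  obtain ⟨_, _, _, _, _, -, -, h⟩ := exists_closure F
  exact h

variable {D : ChevalleyDatum} {l : ℕ} {M : CoxeterMatrix (Fin l)} (hp : IsType D l M)

section Tor

variable {k : Type} [Field k] [IsAlgClosed k]

theorem tau_prod_mem {H : Subgroup ↥(D.group k)} {a : Fin l → kˣ} (h : ∀ j, hc hp j (a j : k) ∈ H) :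
    tau hp (∏ j, coch (cartanOf D l j) (a j)) ∈ H := by
  have h1 : ∏ j, coch (cartanOf D l j) (a j) ∈ H.comap (tau hp) :=
    Subgroup.prod_mem _ fun j _ => by rw [Subgroup.mem_comap, ← hc_eq_tau]; exact h j
  exact h1

omit [IsAlgClosed k] in
theorem pow_eq_prod {d : ℕ} {B : Fin l → Fin l → ℤ} (hB : InvC D l d B) (c : Fin l → kˣ) :
    c ^ d = ∏ j, coch (cartanOf D l j) (chr (fun m => B m j) c) := by
  funext i
  have h : (fun m => ∑ j, B m j * cartanOf D l j i) = Pi.single i (d : ℤ) := by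
    funext m
    rw [hB m i, Pi.single_apply]
  rw [prod_coch_chr, h, chr_single, Pi.pow_apply, zpow_natCast]

/-- The root lattice quotient is generated by the fundamental weight `i₀`. -/
def CycC (D : ChevalleyDatum) (l : ℕ) (i₀ : Fin l) (C : Fin l → Fin l → ℤ) (v : Fin l → ℤ) : Prop :=
  ∀ m i, ∑ j, C m j * cartanOf D l j i + v m * (if i = i₀ then 1 else 0) = if m = i then 1 else 0

instance decCycC (D : ChevalleyDatum) (l : ℕ) (i₀ : Fin l) (C : Fin l → Fin l → ℤ) (v : Fin l → ℤ) :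
    Decidable (CycC D l i₀ C v) := by
  unfold CycC; infer_instance

omit [IsAlgClosed k] in
theorem eq_prod_mul {i₀ : Fin l} {C : Fin l → Fin l → ℤ} {v : Fin l → ℤ} (hC : CycC D l i₀ C v) (c : Fin l → kˣ) :
    c = (∏ j, coch (cartanOf D l j) (chr (fun m => C m j) c)) * coch (sr i₀) (chr v c) := by
  funext i
  have h : (fun m => ∑ j, C m j * cartanOf D l j i) + (sr i₀ : Fin l → ℤ) i • v = sr i := by
    funext m
    have h1 := hC m i
    rw [Pi.add_apply, Pi.smul_apply, smul_eq_mul, mul_comm, sr, sr, Pi.single_apply, Pi.single_apply]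
    exact h1
  rw [Pi.mul_apply, prod_coch_chr, coch_apply, ← chr_smul, ← chr_add, h, chr_sr]

end Tor

section Main

variable {p : ℕ} [Fact p.Prime] {k : Type} [Field k] [CharP k p] [IsAlgClosed k] {e : ℕ}
  {F : Type} [Field F] [Fintype F] (f : F →+* k) (hF : Fintype.card F = p ^ e)

theorem tau_mem_GF {c : Fin l → kˣ} : tau hp c ∈ GF (frobA hp.inList p e) (TT D k) ↔ c ^ p ^ e = c := by
  rw [mem_GF, frobA_tau]
  exact ⟨fun h => tau_inj hp h.2, fun h => ⟨tau_mem hp c, by rw [h]⟩⟩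

omit [IsAlgClosed k] [CharP k p] [Fact p.Prime] in
include hF in
theorem exists_unit {a : kˣ} (ha : a ^ p ^ e = a) : ∃ b : Fˣ, Units.map (f : F →* k) b = a := by
  have h1 : (a : k) ^ Fintype.card F = a := by rw [hF, ← Units.val_pow_eq_pow_val, ha]
  obtain ⟨b, hb⟩ := Emb.mem_range_of_pow f h1
  have h0 : b ≠ 0 := by
    rintro rfl
    exact a.ne_zero (by rw [← hb, map_zero])
  exact ⟨Units.mk0 b h0, Units.ext hb⟩

omit [IsAlgClosed k] [CharP k p] [Fact p.Prime] in
include hF in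
theorem map_pow_eq (b : Fˣ) : Units.map (f : F →* k) b ^ p ^ e = Units.map (f : F →* k) b := by
  rw [← map_pow, ← hF]
  congr 1
  exact Units.ext (by rw [Units.val_pow_eq_pow_val, FiniteField.pow_card])

omit [IsAlgClosed k] [CharP k p] [Fact p.Prime] in
include hF in
theorem hc_mem_range (j : Fin l) {a : kˣ} (ha : a ^ p ^ e = a) : hc hp j (a : k) ∈ (emb hp.inList f).range := by
  obtain ⟨b, rfl⟩ := exists_unit f hF ha
  exact ⟨hc hp j b, emb_hc hp f j b⟩

omit [IsAlgClosed k] in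
include hF in
theorem frob_card (t : k) : iterateFrobenius k p e t = t ^ Fintype.card F := by
  rw [hF, iterateFrobenius_def]

include hF in
theorem over_split' {d : ℕ} {B : Fin l → Fin l → ℤ} (hB : InvC D l d B) :
    Over (frobA hp.inList p e) ⊤ (TT D k) (emb hp.inList f) d where
  inj := emb_injective _ f
  mem s := ⟨trivial, Emb.emb_fix hp.inList (frob_card hF) (σ := frobA hp.inList p e) (fun _ => rfl) s⟩
  norm g hg s := Emb.conj_mem_range hp.inList (frob_card hF) (σ := frobA hp.inList p e) (fun _ => rfl) hg.2 ⟨s, rfl⟩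
  split g hg := by
    obtain ⟨x, hx, t, ht, h⟩ := EmbSplit.untw_split hp.inList (f := f) (Emb.fix_iff_range (frob_card hF)) g.2
      (congrArg Subtype.val hg.2)
    have h1 : g = emb hp.inList f ⟨x, hx⟩ * ⟨t, diagonal_le_group hp.inList k ht⟩ := Subtype.ext h
    refine ⟨⟨x, hx⟩, ⟨t, diagonal_le_group hp.inList k ht⟩, ⟨ht, ?_⟩, h1⟩
    have h2 : frobA hp.inList p e g = g := hg.2
    rw [h1, map_mul, Emb.emb_fix hp.inList (frob_card hF) (σ := frobA hp.inList p e) (fun _ => rfl)] at h2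
    exact mul_left_cancel h2
  pow t ht := by
    obtain ⟨c, rfl⟩ := (mem_TT_iff hp t).1 ht.1
    rw [← map_pow, pow_eq_prod hB]
    exact tau_prod_mem hp fun j => hc_mem_range hp f hF j (chr_pow_eq ((tau_mem_GF hp).1 ht) _)
  comm := TT_comm hp
  le := le_top

theorem pow_sub_one {t : ↥(D.group k)} (ht : t ∈ GF (frobA hp.inList p e) (TT D k)) : t ^ (p ^ e - 1) = 1 := by
  obtain ⟨c, rfl⟩ := (mem_TT_iff hp t).1 ht.1
  have h1 := (tau_mem_GF hp).1 ht
  have h2 : p ^ e = (p ^ e - 1) + 1 := (Nat.sub_add_cancel (Nat.one_le_pow _ _ (Fact.out : p.Prime).pos)).symm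
  rw [h2, pow_succ, mul_eq_right] at h1
  rw [← map_pow, h1, map_one]

include hF in
/-- **`D.group F` inside `G^F`.** -/
theorem over_split {d : ℕ} {B : Fin l → Fin l → ℤ} (hB : InvC D l d B) :
    Over (frobA hp.inList p e) ⊤ (TT D k) (emb hp.inList f) (Nat.gcd d (p ^ e - 1)) :=
  (over_split' hp f hF hB).gcd fun t ht => by rw [pow_sub_one hp ht]; exact one_mem _

include hF in
theorem index_dvd {d : ℕ} (O : Over (frobA hp.inList p e) ⊤ (TT D k) (emb hp.inList f) d) {i₀ : Fin l}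
    {C : Fin l → Fin l → ℤ} {v : Fin l → ℤ} (hC : CycC D l i₀ C v) : O.hom.range.index ∣ d := by
  obtain ⟨a, ha⟩ := IsCyclic.exists_generator (α := Fˣ)
  refine O.index_dvd (t₀ := tau hp (coch (sr i₀) (Units.map (f : F →* k) a))) ?_ fun t ht => ?_
  · rw [tau_mem_GF, ← map_pow, map_pow_eq f hF]
  · obtain ⟨c, rfl⟩ := (mem_TT_iff hp t).1 ht.1
    have h1 := (tau_mem_GF hp).1 ht
    obtain ⟨b, hb⟩ := exists_unit f hF (chr_pow_eq h1 v)
    obtain ⟨n, rfl⟩ := ha b
    refine ⟨n, ?_⟩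
    rw [← map_zpow, ← map_zpow, ← map_zpow, hb, ← map_inv, ← map_mul]
    conv => enter [2, 2, 1]; rw [eq_prod_mul hC c]
    rw [mul_inv_cancel_right]
    exact tau_prod_mem hp fun j => hc_mem_range hp f hF j (chr_pow_eq h1 _)

end Main

/-! ### the types -/

theorem cycC_E6 : CycC chevE6 6 0 ![![0, 0, 0, 0, 0, 0], ![1, 2, 2, 3, 2, 1], ![-1, 0, 0, 0, 0, 0],
    ![2, 3, 4, 6, 4, 2], ![0, 1, 1, 2, 2, 1], ![-2, -1, -2, -2, -1, 0]] ![1, 0, 2, 0, 1, 2] := by decide +kernel

theorem cycC_E7 : CycC chevE7 7 6 ![![2, 2, 3, 4, 3, 2, 1], ![1, 2, 2, 3, 2, 1, 0], ![3, 4, 6, 8, 6, 4, 2],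
    ![4, 6, 8, 12, 9, 6, 3], ![2, 3, 4, 6, 5, 3, 1], ![2, 3, 4, 6, 5, 4, 2], ![0, 0, 0, 0, 0, 0, 0]]
    ![0, 1, 0, 0, 1, 0, 1] := by decide +kernel

section Types

variable {p : ℕ} [Fact p.Prime] {k : Type} [Field k] [CharP k p] [IsAlgClosed k] {e : ℕ}
  {F : Type} [Field F] [Fintype F] (f : F →+* k) (hF : Fintype.card F = p ^ e)

include hF

theorem over_G2 (hp : IsType chevG2 2 CoxeterMatrix.G₂) :
    Over (frobA hp.inList p e) ⊤ (TT chevG2 k) (emb hp.inList f) 1 := over_split' hp f hF invC_G2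

theorem over_F4 (hp : IsType chevF4 4 CoxeterMatrix.F₄) :
    Over (frobA hp.inList p e) ⊤ (TT chevF4 k) (emb hp.inList f) 1 := over_split' hp f hF invC_F4

theorem over_E8 (hp : IsType chevE8 8 CoxeterMatrix.E₈) :
    Over (frobA hp.inList p e) ⊤ (TT chevE8 k) (emb hp.inList f) 1 := over_split' hp f hF invC_E8

theorem over_E6 (hp : IsType chevE6 6 CoxeterMatrix.E₆) :
    Over (frobA hp.inList p e) ⊤ (TT chevE6 k) (emb hp.inList f) (Nat.gcd 3 (p ^ e - 1)) := over_split hp f hF invC_E6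

theorem over_E7 (hp : IsType chevE7 7 CoxeterMatrix.E₇) :
    Over (frobA hp.inList p e) ⊤ (TT chevE7 k) (emb hp.inList f) (Nat.gcd 2 (p ^ e - 1)) := over_split hp f hF invC_E7

theorem index_dvd_E6 (hp : IsType chevE6 6 CoxeterMatrix.E₆) :
    (over_E6 f hF hp).hom.range.index ∣ Nat.gcd 3 (p ^ e - 1) := index_dvd hp f hF _ cycC_E6

theorem index_dvd_E7 (hp : IsType chevE7 7 CoxeterMatrix.E₇) :
    (over_E7 f hF hp).hom.range.index ∣ Nat.gcd 2 (p ^ e - 1) := index_dvd hp f hF _ cycC_E7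

end Types

end Cfsg.Agent.DL.Ex
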