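import Cfsg.Agent.DL.Ex.Fin

/-!
# Steinberg endomorphisms given by tables (helper5)

`Acts hD p m σ b e ε` : `σ (x_r t) = x_(b r) (ε r * t ^ p ^ (m + e r))`; `Tab D l b e ε π` : the tables permute the
simple roots by `π`, without signs.

* `chevP` : the datum for `σ`; `Acts.tau` : the action on the torus; `Acts.g_pos` : `σ` fixes the Borel subgroup;
* `Acts.sq`, `Acts.cube`, `amb_of_pow` : a power of `σ` is a Frobenius automorphism;
* `over_of_fix` : the fixed points of `σ` when the root lattice is the weight lattice.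
-/

set_option autoImplicit false
set_option linter.unusedSectionVars false

namespace Cfsg.Agent.DL.Ex

open CoxeterSystem Cfsg Cfsg.Lie Cfsg.Lie.ChevalleyDatum
open Cfsg.Agent.ChevalleyStructure Cfsg.Agent.ChevalleyStructure.Elts Cfsg.Agent.ChevalleyStructure.CoxeterGeom
  Cfsg.Agent.ChevalleyStructure.CoxeterGeomTypes Cfsg.Agent.ChevalleyStructure.NPerm
open Cfsg.Agent.Tits.Roots Cfsg.Agent.Tits.Core Cfsg.Agent.Nodes Cfsg.Agent.Nodes.Reps Cfsg.Agent.Nodes.BNOf
  Cfsg.Agent.Nodes.RGDChev Cfsg.Agent.Nodes.Bruhat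
open Cfsg.Agent.KFacts.RgdField Cfsg.Agent.KFacts.RgdChevCoord Cfsg.Agent.BpExc.TorChev
open Cfsg.Agent.GpExc.Field Cfsg.Agent.BpExc.Tow Cfsg.Agent.BpExc.TowChev Cfsg.Agent.BpExc.Fr
  Cfsg.Agent.BpExc.LangFr Cfsg.Agent.LangThm Cfsg.Agent.BpExc Cfsg.Agent.H129.TorusChar

variable {D : ChevalleyDatum} {l : ℕ} {M : CoxeterMatrix (Fin l)}

section Root

variable {K : Type} [Field K]

/-- the root elements -/
def xr (hD : InList D) (r : ℕ) (t : K) : ↥(D.group K) := ⟨xG hD r t, xG_mem_group hD r t⟩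

theorem coe_xr (hD : InList D) (r : ℕ) (t : K) : ((xr hD r t : ↥(D.group K)) : GL D.Idx K) = xG hD r t := rfl

theorem xc_vec (hp : IsType D l M) {r : ℕ} (hr : r < D.nroots) (t : K) : xc hp (vec D l r) t = xr hp.inList r t :=
  Subtype.ext (coe_xc hp hr t)

theorem xr_hom_ext (hD : InList D) {H : Type*} [Group H] {f g : ↥(D.group K) →* H}
    (h : ∀ r < D.nroots, ∀ t : K, f (xr hD r t) = g (xr hD r t)) : f = g := by
  have h1 : D.group K ≤ ((f.eqLocus g).map (D.group K).subtype) := by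
    rw [group_le_iff hD]
    intro r hr t
    exact ⟨xr hD r t, h r hr t, rfl⟩
  refine MonoidHom.ext fun y => ?_
  obtain ⟨y', hy', e⟩ := h1 y.2
  obtain rfl : y' = y := Subtype.ext e
  exact hy'

theorem xr_aut_ext (hD : InList D) {α β : MulAut ↥(D.group K)}
    (h : ∀ r < D.nroots, ∀ t : K, α (xr hD r t) = β (xr hD r t)) : α = β :=
  MulEquiv.ext fun y => DFunLike.congr_fun (xr_hom_ext hD (f := α.toMonoidHom) (g := β.toMonoidHom) h) y

theorem emb_xr (hD : InList D) {L : Type} [Field L] (f : K →+* L) (r : ℕ) (t : K) :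
    emb hD f (xr hD r t) = xr hD r (f t) := Subtype.ext (glMap_xG hD f r t)

theorem hc_eq_xr (hp : IsType D l M) (j : Fin l) (c : K) : hc hp j c =
    xr hp.inList (D.simple j) c * (xr hp.inList (D.neg (D.simple j)) (-c⁻¹) * xr hp.inList (D.simple j) c) *
      (xr hp.inList (D.simple j) (-1) * (xr hp.inList (D.neg (D.simple j)) (-(-1)⁻¹) *
        xr hp.inList (D.simple j) (-1))) := by
  apply Subtype.ext
  show hG hp.inList (D.simple j) c = _
  rw [hG_def, nG_def, nG_def]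
  rfl

end Root

/-- The tables: simple roots are permuted by `π` without signs, positive roots go to positive roots. -/
def Tab (D : ChevalleyDatum) (l : ℕ) (b e : ℕ → ℕ) (ε : ℕ → ℤ) (π : Equiv.Perm (Fin l)) : Prop :=
  (∀ r < D.nroots, b r < D.nroots ∧ ε r * ε r = 1 ∧ ((∀ i, 0 ≤ vec D l r i) → ∀ i, 0 ≤ vec D l (b r) i)) ∧
  ∀ i : Fin l, b (D.simple i) = D.simple (π i) ∧ b (D.neg (D.simple i)) = D.neg (D.simple (π i)) ∧
    ε (D.simple i) = 1 ∧ ε (D.neg (D.simple i)) = 1 ∧ e (D.neg (D.simple i)) = e (D.simple i)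

instance decTab (D : ChevalleyDatum) (l : ℕ) (b e : ℕ → ℕ) (ε : ℕ → ℤ) (π : Equiv.Perm (Fin l)) :
    Decidable (Tab D l b e ε π) := by
  unfold Tab; infer_instance

/-- The action on the root elements. -/
def Acts (hD : InList D) (p m : ℕ) {K : Type} [Field K] (σ : MulAut ↥(D.group K)) (b e : ℕ → ℕ) (ε : ℕ → ℤ) : Prop :=
  ∀ r < D.nroots, ∀ t : K, σ (xr hD r t) = xr hD (b r) ((ε r : K) * t ^ p ^ (m + e r))

section Act

variable {p : ℕ} [Fact p.Prime] {K : Type} [Field K] [CharP K p] {m : ℕ} {σ : MulAut ↥(D.group K)} {b e : ℕ → ℕ}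
  {ε : ℕ → ℤ} {π : Equiv.Perm (Fin l)}

theorem int_pow (a : ℤ) (n : ℕ) : (a : K) ^ p ^ n = a := by
  rw [← iterateFrobenius_def, map_intCast]

theorem Acts.hc (hp : IsType D l M) (A : Acts hp.inList p m σ b e ε) (T : Tab D l b e ε π) (j : Fin l) (c : K) :
    σ (hc hp j c) = hc hp (π j) (c ^ p ^ (m + e (D.simple j))) := by
  obtain ⟨h1, h2, h3, h4, h5⟩ := T.2 j
  have hj := simple_lt hp.inList (lt_rank hp j)
  have hn := neg_lt hp.inList hj
  have e1 : ∀ c : K, σ (xr hp.inList (D.simple j) c) =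
      xr hp.inList (D.simple (π j)) (iterateFrobenius K p (m + e (D.simple j)) c) := fun c => by
    rw [A _ hj, h1, h3, Int.cast_one, one_mul, iterateFrobenius_def]
  have e2 : ∀ c : K, σ (xr hp.inList (D.neg (D.simple j)) c) =
      xr hp.inList (D.neg (D.simple (π j))) (iterateFrobenius K p (m + e (D.simple j)) c) := fun c => by
    rw [A _ hn, h2, h4, h5, Int.cast_one, one_mul, iterateFrobenius_def]
  rw [hc_eq_xr, hc_eq_xr, ← iterateFrobenius_def]
  simp only [map_mul, e1, e2, map_neg, map_inv₀, map_one]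

theorem Acts.TT (hp : IsType D l M) (A : Acts hp.inList p m σ b e ε) (T : Tab D l b e ε π) {t : ↥(D.group K)}
    (ht : t ∈ TT D K) : σ t ∈ TT D K := by
  have h1 : Subgroup.closure {g | ∃ (j : Fin l) (c : K), c ≠ 0 ∧ g = KFacts.RgdChevCoord.hc hp j c} ≤
      (KFacts.RgdChevCoord.TT D K).comap σ.toMonoidHom := by
    rw [Subgroup.closure_le]
    rintro _ ⟨j, c, hc0, rfl⟩
    show σ _ ∈ KFacts.RgdChevCoord.TT D K
    rw [A.hc hp T]
    exact hc_mem hp _ (pow_ne_zero _ hc0)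
  exact h1 (TT_le hp ht)

theorem Acts.xc (hp : IsType D l M) (A : Acts hp.inList p m σ b e ε) (T : Tab D l b e ε π) {r : ℕ}
    (hr : r < D.nroots) (u : K) : σ (xc hp (vec D l r) u) = xc hp (vec D l (b r)) ((ε r : K) * u ^ p ^ (m + e r)) := by
  rw [xc_vec hp hr, xc_vec hp (T.1 r hr).1, A r hr]

omit [Fact p.Prime] [CharP K p] in
theorem Tab.ne (T : Tab D l b e ε π) {r : ℕ} (hr : r < D.nroots) : (ε r : K) ≠ 0 := fun h0 => by
  have h1 : (ε r : K) * (ε r : K) = 1 := by rw [← Int.cast_mul, (T.1 r hr).2.1, Int.cast_one]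
  rw [h0, mul_zero] at h1
  exact zero_ne_one h1

/-- the embedding of the finite group intertwines -/
theorem Acts.emb {hD : InList D} {L : Type} [Field L] (f : K →+* L) {σ' : MulAut ↥(D.group L)}
    (A : Acts hD p m σ b e ε) (A' : Acts hD p m σ' b e ε) (a : ↥(D.group K)) :
    emb hD f (σ a) = σ' (emb hD f a) := by
  have h : (GpExc.Field.emb hD f).comp σ.toMonoidHom = σ'.toMonoidHom.comp (GpExc.Field.emb hD f) := by
    refine xr_hom_ext hD fun r hr t => ?_
    show GpExc.Field.emb hD f (σ (xr hD r t)) = σ' (GpExc.Field.emb hD f (xr hD r t))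
    rw [A r hr, emb_xr, emb_xr, A' r hr, map_mul, map_intCast, map_pow]
  exact DFunLike.congr_fun h a

variable [IsAlgClosed K]

theorem frobA_xr (hD : InList D) (n r : ℕ) (t : K) : frobA hD p n (xr hD r t) = xr hD r (t ^ p ^ n) := by
  rw [frobA_apply, emb_xr, iterateFrobenius_def]

theorem Acts.mul_frob {hD : InList D} (A : Acts hD p 0 σ b e ε) (m : ℕ) : Acts hD p m (σ * frobA hD p m) b e ε := by
  intro r hr t
  rw [MulAut.mul_apply, frobA_xr, A r hr, zero_add, pow_add, pow_mul]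

theorem Acts.sq {hD : InList D} (A : Acts hD p m σ b e ε) {c : ℕ}
    (h : ∀ r < D.nroots, b r < D.nroots ∧ b (b r) = r ∧ ε (b r) * ε r = 1 ∧ e r + e (b r) = c) :
    σ ^ 2 = frobA hD p (2 * m + c) := by
  refine xr_aut_ext hD fun r hr t => ?_
  obtain ⟨h1, h2, h3, h4⟩ := h r hr
  rw [pow_two, MulAut.mul_apply, A r hr, A _ h1, frobA_xr, h2, mul_pow, int_pow, ← mul_assoc, ← Int.cast_mul, h3,
    Int.cast_one, one_mul, ← pow_mul, ← pow_add, ← h4]
  congr 3
  ring

theorem Acts.cube {hD : InList D} (A : Acts hD p m σ b (fun _ => 0) ε)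
    (h : ∀ r < D.nroots, b r < D.nroots ∧ b (b (b r)) = r ∧ ε (b (b r)) * (ε (b r) * ε r) = 1) :
    σ ^ 3 = frobA hD p (3 * m) := by
  refine xr_aut_ext hD fun r hr t => ?_
  obtain ⟨h1, h2, h3⟩ := h r hr
  rw [pow_succ, pow_two, MulAut.mul_apply, MulAut.mul_apply, A r hr, A _ h1, A _ (h _ h1).1, frobA_xr, h2, mul_pow,
    mul_pow, mul_pow, int_pow, int_pow, int_pow, ← mul_assoc, ← mul_assoc, ← Int.cast_mul, ← Int.cast_mul, mul_assoc,
    h3, Int.cast_one, one_mul, ← pow_mul, ← pow_mul, ← pow_add, ← pow_add]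
  congr 3
  ring

theorem amb_of_pow {hD : InList D} (hk : LocFin K) {d n : ℕ} (hd : 0 < d) (hn : 0 < n) (h : σ ^ d = frobA hD p n) :
    Amb p (D.group K).subtype σ where
  lf := lf_of_locFin hk
  inj := (D.group K).subtype_injective
  frob := ⟨d, n, hd, hn, fun y => by rw [h]; rfl⟩

omit [IsAlgClosed K] [CharP K p] [Fact p.Prime] in
theorem idx_sr (hp : IsType D l M) (i : Fin l) : idx D l (sr i) = D.simple i := by
  rw [← vec_simple hp i, idx_vec hp (simple_lt hp.inList (lt_rank hp i))]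

theorem Acts.F_x (hp : IsType D l M) (A : Acts hp.inList p m σ b e ε) (T : Tab D l b e ε π) {W : Type*} [Group W]
    (cs : CoxeterSystem M W) (a : Fin l → ℤ) (ha : IsRoot cs hp.isCartan a) : ∃ c : K, c ≠ 0 ∧ ∀ u,
      σ (KFacts.RgdChevCoord.xc hp a u) =
        KFacts.RgdChevCoord.xc hp (vec D l (b (idx D l a))) (c * u ^ p ^ (m + e (idx D l a))) := by
  obtain ⟨r, hr, rfl⟩ := (isRoot_iff hp cs a).1 ha
  rw [idx_vec hp hr]
  exact ⟨_, T.ne hr, A.xc hp T hr⟩

omit [IsAlgClosed K] [CharP K p] [Fact p.Prime] in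
theorem Tab.g_sr (hp : IsType D l M) (T : Tab D l b e ε π) (i : Fin l) :
    vec D l (b (idx D l (sr i))) = sr (π i) := by
  rw [idx_sr hp, (T.2 i).1, vec_simple hp]

omit [IsAlgClosed K] [CharP K p] [Fact p.Prime] in
theorem Tab.g_root (hp : IsType D l M) (T : Tab D l b e ε π) {W : Type*} [Group W] (cs : CoxeterSystem M W)
    (a : Fin l → ℤ) (ha : IsRoot cs hp.isCartan a) : IsRoot cs hp.isCartan (vec D l (b (idx D l a))) := by
  obtain ⟨r, hr, rfl⟩ := (isRoot_iff hp cs a).1 ha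
  rw [idx_vec hp hr]
  exact (isRoot_iff hp cs _).2 ⟨_, (T.1 r hr).1, rfl⟩

omit [IsAlgClosed K] [CharP K p] [Fact p.Prime] in
theorem Tab.g_pos (hp : IsType D l M) (T : Tab D l b e ε π) {W : Type*} [Group W] (cs : CoxeterSystem M W)
    (a : Fin l → ℤ) (ha : IsRoot cs hp.isCartan a) (h0 : 0 ≤ a) : 0 ≤ vec D l (b (idx D l a)) := by
  obtain ⟨r, hr, rfl⟩ := (isRoot_iff hp cs a).1 ha
  rw [idx_vec hp hr]
  exact (T.1 r hr).2.2 h0

/-- **The datum for an automorphism given by tables.** -/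
noncomputable def chevP (hp : IsType D l M) (hk : LocFin K) (amb : Amb p (D.group K).subtype σ)
    (A : Acts hp.inList p m σ b e ε) (T : Tab D l b e ε π) : Datum p (D.group K).subtype σ ⊤ :=
  chevF hp hk amb (fun a => vec D l (b (idx D l a))) (fun a => m + e (idx D l a)) (T.g_root hp _) (A.F_x hp T _)
    (fun _ ht => A.TT hp T ht) (fun i => sr (π.symm i)) (fun _ => isRoot_sr _ _ _)
    (fun i => by rw [T.g_sr hp, Equiv.apply_symm_apply])

/-- the action on the torus -/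
theorem Acts.tau (hp : IsType D l M) (A : Acts hp.inList p m σ b e ε) (T : Tab D l b e ε π) (c : Fin l → Kˣ) :
    σ (tau hp c) = tau hp fun i => c (π.symm i) ^ p ^ (m + e (D.simple (π.symm i))) := by
  rw [F_tau hp M.toCoxeterSystem (A.F_x hp T _) (fun _ ht => A.TT hp T ht) (b := fun i => sr (π.symm i))
    (fun _ => isRoot_sr _ _ _) (fun i => by rw [T.g_sr hp, Equiv.apply_symm_apply])]
  congr 1
  funext i
  rw [mon_apply]
  show chr (((p : ℤ) ^ (m + e (idx D l (sr (π.symm i))))) • sr (π.symm i)) c = _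
  rw [chr_smul, chr_sr, idx_sr hp, ← Nat.cast_pow, zpow_natCast]

theorem Acts.tau_mem_GF (hp : IsType D l M) (A : Acts hp.inList p m σ b e ε) (T : Tab D l b e ε π)
    {c : Fin l → Kˣ} : Ex.tau hp c ∈ GF σ (KFacts.RgdChevCoord.TT D K) ↔
      ∀ i, c (π i) = c i ^ p ^ (m + e (D.simple i)) := by
  rw [mem_GF, A.tau hp T]
  constructor
  · intro h i
    have h1 := congrFun (tau_inj hp h.2) (π i)
    rw [Equiv.symm_apply_apply] at h1
    exact h1.symm
  · refine fun h => ⟨tau_mem hp c, congrArg _ (funext fun i => ?_)⟩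
    rw [← h, Equiv.apply_symm_apply]

theorem fix_pow {Y : Type} [Group Y] {F : MulAut Y} {y : Y} (h : F y = y) (n : ℕ) : (F ^ n) y = y := by
  induction n with
  | zero => rfl
  | succ n ih => rw [pow_succ, MulAut.mul_apply, h, ih]

/-- **The fixed points**, if the fixed points of `σ ^ d` are rational. -/
theorem over_of_fix (hp : IsType D l M) {F : Type} [Field F] {f : F →+* K} {d n : ℕ}
    (h : σ ^ d = frobA hp.inList p n) (O : Over (frobA hp.inList p n) ⊤ (KFacts.RgdChevCoord.TT D K) (emb hp.inList f) 1)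
    {S : Type*} [Group S] {j : S →* ↥(D.group F)} (hj : Function.Injective j)
    (hfix : ∀ a, σ (emb hp.inList f a) = emb hp.inList f a ↔ a ∈ j.range) :
    Over σ ⊤ (KFacts.RgdChevCoord.TT D K) ((emb hp.inList f).comp j) 1 := by
  refine over_of_range (O.inj.comp hj) ?_ O.comm le_top
  apply le_antisymm
  · rintro _ ⟨s, rfl⟩
    exact ⟨trivial, (hfix _).2 ⟨s, rfl⟩⟩
  · intro y hy
    have h1 : y ∈ GF (frobA hp.inList p n) ⊤ := ⟨trivial, by rw [← h]; exact fix_pow hy.2 d⟩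
    rw [← O.range_eq] at h1
    obtain ⟨a, rfl⟩ := h1
    obtain ⟨s, rfl⟩ := (hfix a).1 hy.2
    exact ⟨s, rfl⟩

end Act

end Cfsg.Agent.DL.Ex
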