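import Cfsg.Agent.DL.Ex.Lev
import Cfsg.Agent.H129.TorusChar

/-!
# The datum of the tabulated Chevalley groups over an algebraically closed field (helper5)

`hp : IsType D l M` (types `G2 B2 D4 F4 E6 E7 E8`), `Y = D.group k`, `ρ` the inclusion, `G = ⊤`.

* `tau hp : (Fin l → kˣ) →* D.group k` : the adjoint torus, `cX hp (tau hp c) x = chr x c`;
* `autE`, `frobA hD p e` : field automorphisms;
* `chev hp hk e he : Datum p ρ (frobA _ p e) ⊤` : the split datum (`x = xc hp`, `X = XX D l k`, `T = TT D k`,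
  `n = nc hp k`, `wt = id`, `cw = cartanOf D l`);
* `chevF` : the datum for any `F` which permutes the root groups and normalises the torus;
  `chevFr` : the datum for a frame automorphism `σ` with `IsFrob p e σ`.
-/

set_option autoImplicit false
set_option linter.unusedSectionVars false

namespace Cfsg.Agent.DL.Ex

open CoxeterSystem Cfsg Cfsg.Lie Cfsg.Lie.ChevalleyDatum
open Cfsg.Agent.ChevalleyStructure Cfsg.Agent.ChevalleyStructure.Elts Cfsg.Agent.ChevalleyStructure.CoxeterGeom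
  Cfsg.Agent.ChevalleyStructure.CoxeterGeomTypes Cfsg.Agent.ChevalleyStructure.NPerm
open Cfsg.Agent.Tits.Roots Cfsg.Agent.Tits.Core Cfsg.Agent.Nodes Cfsg.Agent.Nodes.Reps Cfsg.Agent.Nodes.BNOf
  Cfsg.Agent.Nodes.RGDChev Cfsg.Agent.Nodes.Bruhat
open Cfsg.Agent.KFacts.RgdField Cfsg.Agent.KFacts.RgdChevCoord Cfsg.Agent.BpExc.TorChev
open Cfsg.Agent.GpExc.Field Cfsg.Agent.BpExc.Tow Cfsg.Agent.BpExc.TowChev Cfsg.Agent.BpExc.Fr
  Cfsg.Agent.BpExc.LangFr Cfsg.Agent.LangThm Cfsg.Agent.BpExc Cfsg.Agent.H129.TorusChar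

variable {D : ChevalleyDatum} {l : ℕ} {M : CoxeterMatrix (Fin l)} (hp : IsType D l M)

theorem invC_B2 : InvC chevB2 2 2 ![![2, 2], ![1, 2]] := by decide +kernel

include hp in
theorem exists_invC : ∃ (d : ℕ) (B : Fin l → Fin l → ℤ), (d = 1 ∨ d = 2 ∨ d = 3) ∧ InvC D l d B := by
  have hp' := hp
  simp only [IsType, typeList, List.mem_cons, List.not_mem_nil, or_false, Prod.mk.injEq] at hp'
  rcases hp' with ⟨h, e⟩ | ⟨h, e⟩ | ⟨h, e⟩ | ⟨h, e⟩ | ⟨h, e⟩ | ⟨h, e⟩ | ⟨h, e⟩
  · obtain rfl : l = 2 := congrArg Sigma.fst e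
    subst h
    exact ⟨1, _, by omega, invC_G2⟩
  · obtain rfl : l = 2 := congrArg Sigma.fst e
    subst h
    exact ⟨2, _, by omega, invC_B2⟩
  · obtain rfl : l = 4 := congrArg Sigma.fst e
    subst h
    exact ⟨2, _, by omega, invC_D4⟩
  · obtain rfl : l = 4 := congrArg Sigma.fst e
    subst h
    exact ⟨1, _, by omega, invC_F4⟩
  · obtain rfl : l = 6 := congrArg Sigma.fst e
    subst h
    exact ⟨3, _, by omega, invC_E6⟩
  · obtain rfl : l = 7 := congrArg Sigma.fst e
    subst h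
    exact ⟨2, _, by omega, invC_E7⟩
  · obtain rfl : l = 8 := congrArg Sigma.fst e
    subst h
    exact ⟨1, _, by omega, invC_E8⟩

/-! ### characters -/

section Chr

variable {R : Type} [Fintype R] {k : Type} [Field k]

theorem coe_chr (m : R → ℤ) (c : R → kˣ) : ((chr m c : kˣ) : k) = ∏ j, (c j : k) ^ m j := by
  rw [chr_apply, Units.coe_prod]
  exact Finset.prod_congr rfl fun j _ => Units.val_zpow_eq_zpow_val _ _

theorem chr_add (m m' : R → ℤ) (c : R → kˣ) : chr (m + m') c = chr m c * chr m' c := by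
  rw [chr_apply, chr_apply, chr_apply, ← Finset.prod_mul_distrib]
  exact Finset.prod_congr rfl fun j _ => zpow_add _ _ _

theorem chr_zero (c : R → kˣ) : chr (0 : R → ℤ) c = 1 := by simp [chr_apply]

theorem chr_neg (m : R → ℤ) (c : R → kˣ) : chr (-m) c = (chr m c)⁻¹ := by
  rw [eq_inv_iff_mul_eq_one, ← chr_add, neg_add_cancel, chr_zero]

theorem chr_sub (m m' : R → ℤ) (c : R → kˣ) : chr (m - m') c = chr m c * (chr m' c)⁻¹ := by
  rw [sub_eq_add_neg, chr_add, chr_neg]

theorem chr_smul (a : ℤ) (m : R → ℤ) (c : R → kˣ) : chr (a • m) c = chr m c ^ a := by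
  rw [chr_apply, chr_apply, ← Finset.prod_zpow]
  exact Finset.prod_congr rfl fun j _ => by rw [Pi.smul_apply, smul_eq_mul, mul_comm, zpow_mul]

theorem chr_single [DecidableEq R] (i : R) (a : ℤ) (c : R → kˣ) : chr (Pi.single i a) c = c i ^ a := by
  rw [chr_apply, Finset.prod_eq_single i]
  · rw [Pi.single_eq_same]
  · intro j _ hj
    rw [Pi.single_eq_of_ne hj, zpow_zero]
  · intro hi
    exact absurd (Finset.mem_univ i) hi

theorem chr_sr [DecidableEq R] (i : R) (c : R → kˣ) : chr (sr i) c = c i := by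
  rw [sr, chr_single, zpow_one]

theorem chr_coch (m m' : R → ℤ) (a : kˣ) : chr m (coch m' a) = a ^ ∑ j, m j * m' j := by
  have h : ∀ s : Finset R, ∏ j ∈ s, (a ^ m' j) ^ m j = a ^ ∑ j ∈ s, m j * m' j := by
    intro s
    classical
    induction s using Finset.induction_on with
    | empty => simp
    | insert j s hj ih => rw [Finset.prod_insert hj, Finset.sum_insert hj, ih, zpow_add, ← zpow_mul, mul_comm (m' j)]
  exact h _

theorem pairing_sr' {I : Type} [Fintype I] [DecidableEq I] (A : I → I → ℤ) (i j : I) :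
    pairing A i (sr j) = A i j := by
  simp [pairing, sr, Pi.single_apply]

end Chr

/-! ### the torus -/

section Torus

variable {k : Type} [Field k] [IsAlgClosed k]

theorem exists_tau (c : Fin l → kˣ) : ∃ t ∈ TT D k, ∀ x, cX hp t x = (chr x c : kˣ) := by
  obtain ⟨d, B, hd, hB⟩ := exists_invC hp
  obtain ⟨t, ht, h⟩ := exists_cX hp hB (by omega) (IsMC.of_prod (fun i => (c i : k)) fun i => (c i).ne_zero)
    (fun i => IsAlgClosed.exists_pow_nat_eq _ (by omega))
  exact ⟨t, ht, fun x => by rw [h, coe_chr]⟩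

/-- The adjoint torus. -/
noncomputable def tau : (Fin l → kˣ) →* ↥(D.group k) :=
  MonoidHom.mk' (fun c => (exists_tau hp c).choose) fun a b => by
    obtain ⟨h1, h2⟩ := (exists_tau hp (a * b)).choose_spec
    obtain ⟨h3, h4⟩ := (exists_tau hp a).choose_spec
    obtain ⟨h5, h6⟩ := (exists_tau hp b).choose_spec
    refine cX_inj hp h1 (mul_mem h3 h5) fun i => ?_
    rw [cX_mul hp h3 h5, h2, h4, h6, map_mul, Units.val_mul]

theorem tau_mem (c : Fin l → kˣ) : tau hp c ∈ TT D k := (exists_tau hp c).choose_spec.1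

theorem cX_tau (c : Fin l → kˣ) (x : Fin l → ℤ) : cX hp (tau hp c) x = (chr x c : kˣ) :=
  (exists_tau hp c).choose_spec.2 x

theorem tau_inj : Function.Injective (tau hp (k := k)) := by
  intro a b hab
  funext i
  have h1 := cX_tau hp a (sr i)
  rw [hab, cX_tau, chr_sr, chr_sr] at h1
  exact (Units.ext h1).symm

theorem eq_tau {t : ↥(D.group k)} (ht : t ∈ TT D k) {c : Fin l → kˣ} (h : ∀ i, cX hp t (sr i) = c i) :
    tau hp c = t :=
  cX_inj hp (tau_mem hp c) ht fun i => by rw [cX_tau, chr_sr, h]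

theorem mem_TT_iff (t : ↥(D.group k)) : t ∈ TT D k ↔ ∃ c, tau hp c = t := by
  constructor
  · intro ht
    exact ⟨fun i => Units.mk0 (cX hp t (sr i)) ((isMC_cX hp ht).ne_zero _), eq_tau hp ht fun i => rfl⟩
  · rintro ⟨c, rfl⟩
    exact tau_mem hp c

theorem tau_conj {W : Type*} [Group W] (cs : CoxeterSystem M W) {a : Fin l → ℤ} (ha : IsRoot cs hp.isCartan a)
    (c : Fin l → kˣ) (u : k) : tau hp c * xc hp a u * (tau hp c)⁻¹ = xc hp a ((chr a c : kˣ) * u) := by
  rw [← cX_tau hp, cX_root hp cs (tau_mem hp c) ha]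
  obtain ⟨r, hr, rfl⟩ := (isRoot_iff hp cs a).1 ha
  exact (act hp hr (tau_mem hp c)).2 u

/-- the matrix of a torus element -/
theorem coe_tau (c : Fin l → kˣ) : (((tau hp c : ↥(D.group k)) : GL D.Idx k) : Matrix D.Idx D.Idx k) =
    Matrix.diagonal fun i => ((chr (Sum.elim (fun _ => 0) (fun s : Fin D.nroots => vec D l s) i) c : kˣ) : k) := by
  have ht := tau_mem hp c
  obtain ⟨b, hb, e, hact⟩ := H129.Tor.exists_c hp (Subgroup.mem_subgroupOf.1 ht)
  rw [e]
  congr 1
  funext i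
  rcases i with i | s
  · show (1 : k) = _
    rw [Sum.elim_inl]
    show (1 : k) = ((chr (0 : Fin l → ℤ) c : kˣ) : k)
    rw [chr_zero, Units.val_one]
  · rw [Sum.elim_inr, Sum.elim_inr, ← cX_tau hp, cX_vec hp ht s.2]
    symm
    apply ch_eq hp s.2 ht
    apply Subtype.ext
    rw [Subgroup.coe_mul, Subgroup.coe_mul, Subgroup.coe_inv, coe_xc hp s.2, coe_xc hp s.2, hact s s.2, mul_one]

/-- the coroot elements -/
theorem hc_eq_tau (j : Fin l) (a : kˣ) : hc hp j (a : k) = tau hp (coch (cartanOf D l j) a) := by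
  refine (eq_tau hp (hc_mem hp j a.ne_zero) fun i => ?_).symm
  rw [cX_sr, ← vec_simple hp i, ch_hc hp j a.ne_zero (simple_lt hp.inList (lt_rank hp i)), coch_apply,
    Units.val_zpow_eq_zpow_val, cartanOf_def]

end Torus

/-! ### field automorphisms -/

section Aut

variable {k : Type} [Field k] (hD : InList D)

/-- The automorphism of `D.group k` induced by an automorphism of `k`. -/
noncomputable def autE (φ : k ≃+* k) : MulAut ↥(D.group k) where
  toFun := emb hD φ.toRingHom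
  invFun := emb hD φ.symm.toRingHom
  left_inv x := by
    rw [emb_comp]
    apply Subtype.ext
    apply Units.ext
    rw [coe_emb, coe_glMap]
    ext i j
    exact φ.symm_apply_apply _
  right_inv x := by
    rw [emb_comp]
    apply Subtype.ext
    apply Units.ext
    rw [coe_emb, coe_glMap]
    ext i j
    exact φ.apply_symm_apply _
  map_mul' := map_mul _

theorem autE_apply (φ : k ≃+* k) (y : ↥(D.group k)) : autE hD φ y = emb hD φ.toRingHom y := rfl

variable (p : ℕ) [Fact p.Prime] [CharP k p] [IsAlgClosed k]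

/-- The Frobenius automorphism. -/
noncomputable def frobA (e : ℕ) : MulAut ↥(D.group k) := autE hD (iterateFrobeniusEquiv k p e)

theorem frobA_apply (e : ℕ) (y : ↥(D.group k)) : frobA hD p e y = emb hD (iterateFrobenius k p e) y := rfl

theorem coe_frobA (e : ℕ) (y : ↥(D.group k)) : ((frobA hD p e y : ↥(D.group k)) : GL D.Idx k) = frob p e y := rfl

theorem isFrob_frobA (e : ℕ) : IsFrob p e (frobA (k := k) hD p e) :=
  ⟨1, fun g => by rw [coe_frobA, one_mul, inv_one, mul_one]⟩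

end Aut

/-! ### the datum -/

section Dat

variable {p : ℕ} [Fact p.Prime] {k : Type} [Field k] [CharP k p] [IsAlgClosed k]

theorem frobA_xc (e : ℕ) (a : Fin l → ℤ) (u : k) : frobA hp.inList p e (xc hp a u) = xc hp a (u ^ p ^ e) := by
  rw [frobA_apply, emb_xc, iterateFrobenius_def]

theorem frobA_tau (e : ℕ) (c : Fin l → kˣ) : frobA hp.inList p e (tau hp c) = tau hp (c ^ p ^ e) := by
  have h1 : emb hp.inList (iterateFrobenius k p e) (tau hp c) ∈ TT D k := emb_T hp _ ⟨_, tau_mem hp c, rfl⟩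
  refine (eq_tau hp h1 fun i => ?_).symm
  rw [cX_sr, ← vec_simple hp i, emb_ch hp _ (simple_lt hp.inList (lt_rank hp i)) (tau_mem hp c), vec_simple hp i,
    ← cX_sr, cX_tau, chr_sr, iterateFrobenius_def, Pi.pow_apply, Units.val_pow_eq_pow_val]

theorem amb_of_isFrob (hk : LocFin k) {e : ℕ} (he : 0 < e) {σ : MulAut ↥(D.group k)} (hσ : IsFrob p e σ) :
    Amb p (D.group k).subtype σ where
  lf := lf_of_locFin hk
  inj := (D.group k).subtype_injective
  frob := by
    obtain ⟨n, hn, h⟩ := Sig.exists_pow_frob hk hσ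
    exact ⟨n, n * e, hn, Nat.mul_pos hn he, h⟩

theorem emb_mem_lev (hD : InList D) (e : ℕ) (y : ↥(D.group ↥(levF p k e))) :
    emb hD (levF p k e).subtype y ∈ lev p (D.group k).subtype e := by
  rw [mem_lev]
  apply co_injective
  funext ij
  rw [co_frob]
  exact mem_levF.1 ((y : GL D.Idx ↥(levF p k e)).1 ij.1 ij.2).2

theorem nsysL (p : ℕ) [Fact p.Prime] [CharP k p] (hk : LocFin k) : NSys M (TT D k) (nc hp k) := by
  have := (tow hp M.toCoxeterSystem hk p).nsys
  rwa [TL_eq hp hk] at this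

theorem rgd_level (hk : LocFin k) {W : Type} [Group W] (cs : CoxeterSystem M W) {e : ℕ} (he : 0 < e) :
    RGD cs hp.isCartan p (TT D k ⊓ lev p (D.group k).subtype e) (nc hp k)
      (fun a => XX D l k a ⊓ lev p (D.group k).subtype e) := by
  have R0 := (tow hp cs hk p).rgd ⟨levF p k e, finite_levF he⟩
  refine rgd_lev (D.group k).subtype_injective he (tau_inj hp) (fun t ht => (mem_TT_iff hp t).1 ht) R0 ?_ ?_ ?_ ?_ ?_
  · rintro _ ⟨y, hy, rfl⟩
    exact ⟨emb_T hp _ ⟨y, hy, rfl⟩, emb_mem_lev _ e y⟩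
  · intro a ha
    apply le_antisymm
    · rintro _ ⟨y, hy, rfl⟩
      exact ⟨emb_X hp _ cs ha ⟨y, hy, rfl⟩, emb_mem_lev _ e y⟩
    · rintro y ⟨h1, h2⟩
      obtain ⟨r, hr, rfl⟩ := (isRoot_iff hp cs a).1 ha
      obtain ⟨u, rfl⟩ := (HX.mem_XX_xc hp hr).1 h1
      refine (HX.mem_Xj hp hr).2 ⟨u, mem_levF.2 ?_, rfl⟩
      apply xc_inj hp hr
      rw [← frobA_xc]
      exact Subtype.ext h2
  · intro i
    rw [← emb_nc hp (levF p k e).subtype i]
    exact emb_mem_lev _ e _
  · intro i t ht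
    exact (Subgroup.mem_normalizer_iff.1 ((nsysL hp p hk).norm i) t).1 ht
  · intro a ha t ht u hu
    obtain ⟨r, hr, rfl⟩ := (isRoot_iff hp cs a).1 ha
    obtain ⟨u, rfl⟩ := (HX.mem_XX_xc hp hr).1 hu
    rw [(act hp hr ht).2]
    exact (HX.mem_XX_xc hp hr).2 ⟨_, rfl⟩

theorem nc_tau (p : ℕ) [Fact p.Prime] [CharP k p] (hk : LocFin k) (i : Fin l) (c : Fin l → kˣ) :
    nc hp k i * tau hp c * (nc hp k i)⁻¹ = tau hp (c * (coch (cartanOf D l i) (chr (sr i) c))⁻¹) := by
  have hN := nsysL hp p hk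
  have h1 : nc hp k i * tau hp c * (nc hp k i)⁻¹ ∈ TT D k :=
    (Subgroup.mem_normalizer_iff.1 (hN.norm i) _).1 (tau_mem hp c)
  refine (eq_tau hp h1 fun j => ?_).symm
  have h2 := cX_rp hp M.toCoxeterSystem hk p (rp_simple M.toCoxeterSystem hN i) (tau_mem hp c)
    (rep M.toCoxeterSystem hp.isCartan (M.toCoxeterSystem.simple i) (sr j))
  rw [← rep_mul_apply, simple_mul_simple_self, map_one, Module.End.one_apply] at h2
  rw [h2, cX_tau, rep_simple_eq, chr_sub, chr_smul, chr_sr, chr_sr, Pi.mul_apply, Pi.inv_apply, coch_apply,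
    pairing_sr']

/-- **The split datum.** -/
noncomputable def chev (hk : LocFin k) {e : ℕ} (he : 0 < e) :
    Datum p (D.group k).subtype (frobA hp.inList p e) ⊤ where
  amb := amb_of_isFrob hk he (isFrob_frobA hp.inList p e)
  I := Fin l
  W := M.Group
  fW := finite_W hp M.toCoxeterSystem
  M := M
  cs := M.toCoxeterSystem
  A := cartanOf D l
  h := hp.isCartan
  R := Fin l
  τ := tau hp
  τ_inj := tau_inj hp
  T := TT D k
  mem_T := mem_TT_iff hp
  X := XX D l k
  x := xc hp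
  mem_X a ha y := by
    obtain ⟨r, hr, rfl⟩ := (isRoot_iff hp _ a).1 ha
    rw [HX.mem_XX_xc hp hr]
    exact ⟨fun ⟨u, hu⟩ => ⟨u, hu.symm⟩, fun ⟨u, hu⟩ => ⟨u, hu.symm⟩⟩
  x_inj a ha := ((coordsL hp _ hk p).coord a ha).inj
  x_add a ha := ((coordsL hp _ hk p).coord a ha).add
  n := nc hp k
  wt := AddMonoidHom.id _
  cw := cartanOf D l
  pair i a := Finset.sum_congr rfl fun j _ => mul_comm _ _
  tor a ha c u := tau_conj hp _ ha c u
  refl i c := nc_tau hp p hk i c
  rgd := ⟨1, one_pos, fun m hm => rgd_level hp hk _ (by omega)⟩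
  G_eq := GG_top hp _
  polyx a ha i j := by
    obtain ⟨r, hr, rfl⟩ := (isRoot_iff hp _ a).1 ha
    refine ⟨(xP hp.inList r (Polynomial.X : Polynomial k)).1 i j, fun u => ?_⟩
    have h1 := ev_xP hp.inList r u (Polynomial.X : Polynomial k)
    rw [Polynomial.eval_X] at h1
    rw [Subgroup.coe_subtype, coe_xc hp hr, ← h1, ← Polynomial.coe_aeval_eq_eval]
    rfl
  diag := ⟨1, Sum.elim (fun _ => 0) (fun s : Fin D.nroots => vec D l s), fun c => by
    rw [inv_one, one_mul, mul_one]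
    exact coe_tau hp c⟩
  g a := a
  ex _ := e
  g_root _ ha := ha
  F_x a _ := ⟨1, one_ne_zero, fun u => by rw [frobA_xc, one_mul]⟩
  Mx := Matrix.diagonal fun _ => (p : ℤ) ^ e
  F_τ c := by
    rw [frobA_tau]
    congr 1
    funext i
    have h1 : Matrix.diagonal (fun _ : Fin l => (p : ℤ) ^ e) i = Pi.single i ((p : ℤ) ^ e) := by
      funext j
      rw [Matrix.diagonal_apply, Pi.single_apply]
      exact if_congr eq_comm rfl rfl
    rw [mon_apply, h1, chr_single, Pi.pow_apply, ← zpow_natCast, Nat.cast_pow]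

/-- the action of `F` on the torus is determined by its action on the root groups -/
theorem F_tau {W : Type*} [Group W] (cs : CoxeterSystem M W) {F : MulAut ↥(D.group k)}
    {g : (Fin l → ℤ) → Fin l → ℤ} {ex : (Fin l → ℤ) → ℕ}
    (F_x : ∀ a, IsRoot cs hp.isCartan a → ∃ c : k, c ≠ 0 ∧ ∀ u, F (xc hp a u) = xc hp (g a) (c * u ^ p ^ ex a))
    (hT : ∀ t ∈ TT D k, F t ∈ TT D k) {b : Fin l → Fin l → ℤ} (hb : ∀ i, IsRoot cs hp.isCartan (b i))
    (hgb : ∀ i, g (b i) = sr i) (c : Fin l → kˣ) :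
    F (tau hp c) = tau hp (mon (Matrix.of fun i => ((p : ℤ) ^ ex (b i)) • b i) c) := by
  have h1 := hT _ (tau_mem hp c)
  refine (eq_tau hp h1 fun i => ?_).symm
  obtain ⟨κ, hκ, h2⟩ := F_x (b i) (hb i)
  have h3 := congrArg F (tau_conj hp cs (hb i) c 1)
  rw [map_mul, map_mul, map_inv, h2, h2, hgb, (ch_sr_act hp h1 i).2, mul_one, one_pow, mul_one] at h3
  have h4 := xc_inj (K := k) hp (simple_lt hp.inList (lt_rank hp i))
  rw [vec_simple hp i] at h4
  have h5 := h4 h3
  rw [mul_comm κ] at h5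
  rw [cX_sr, mul_right_cancel₀ hκ h5, mon_apply]
  show _ = ((chr (((p : ℤ) ^ ex (b i)) • b i) c : kˣ) : k)
  rw [chr_smul, ← Nat.cast_pow, zpow_natCast, Units.val_pow_eq_pow_val]

/-- **The datum for an automorphism which permutes the root groups and normalises the torus.**
`b i` is the root with `g (b i) = α_i`. -/
noncomputable def chevF (hk : LocFin k) {F : MulAut ↥(D.group k)} (amb : Amb p (D.group k).subtype F)
    (g : (Fin l → ℤ) → Fin l → ℤ) (ex : (Fin l → ℤ) → ℕ)
    (g_root : ∀ a, IsRoot M.toCoxeterSystem hp.isCartan a → IsRoot M.toCoxeterSystem hp.isCartan (g a))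
    (F_x : ∀ a, IsRoot M.toCoxeterSystem hp.isCartan a →
      ∃ c : k, c ≠ 0 ∧ ∀ u, F (xc hp a u) = xc hp (g a) (c * u ^ p ^ ex a))
    (hT : ∀ t ∈ TT D k, F t ∈ TT D k) (b : Fin l → Fin l → ℤ)
    (hb : ∀ i, IsRoot M.toCoxeterSystem hp.isCartan (b i)) (hgb : ∀ i, g (b i) = sr i) :
    Datum p (D.group k).subtype F ⊤ :=
  (chev hp hk one_pos).withF amb g ex g_root F_x (Matrix.of fun i => ((p : ℤ) ^ ex (b i)) • b i)
    (F_tau hp _ F_x hT hb hgb)

/-- **The datum for a frame automorphism of Frobenius type.** -/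
noncomputable def chevFr (hk : LocFin k) {e : ℕ} (he : 0 < e) {σ : MulAut ↥(D.group k)} (hσ : IsFrob p e σ)
    {g : (Fin l → ℤ) ≃+ (Fin l → ℤ)} (Φ : Fr M.toCoxeterSystem hp.isCartan (TT D k) (XX D l k) σ g) :
    Datum p (D.group k).subtype σ ⊤ :=
  chevF hp hk (amb_of_isFrob hk he hσ) g (fun _ => e) (fun a ha => (Φ.root a).2 ha)
    (fun _ ha => HX.fr_xc hp _ hσ Φ ha) (fun t ht => (Φ.tor t).2 ht) (fun i => g.symm (sr i))
    (fun i => (Φ.root _).1 (by rw [AddEquiv.apply_symm_apply]; exact isRoot_sr _ _ i))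
    (fun i => g.apply_symm_apply _)

end Dat

end Cfsg.Agent.DL.Ex
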